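import Mathlib
import Cfsg.Agent.Lib.E6V.Gen

/-!
Sign patterns on the 27 lines.
-/

set_option autoImplicit false

namespace CfsgLib.E6V

open Finset

/-- witnesses -/
def wit (a b : I) : ℕ := (0x8520508408c38408308b38308e08808988180178108d08608738108f38220108a20208123d08208000038008408c38408308b38308e088089881980b0008d08608738108f38258008a8800813b808221039000008408c38408308b38308e39339488180178108d3913923812323822013952020813b808208008538000008c88708308b38308e088089881980b0008d08608738108f38258008a8800818b908208008538008400038408308b38308e088089881980b0008d08608738108f38258008a8800813b808208008538089239b00008308b38339d088394881980b0039c0863923818aa3825803958800813b808208008538008408c38400008b88608e088089881980b0008d08608738108f38258008a8800818b908208008538008408c38408300038308e088089881980b0008d08608738108f38258008a8800813b808208008538008408c38489139a00039d393089881980b0039c3910873818aa3825803958800813b808208008538008408c38408308b383000088089881980b0008d08608738108f38258008a8800813b808208008538008408c38408308b38308e000089881980b00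08d08608738108f38258008a8800813b808208008538008408c38408308b38308e088000881980b0008d08608738108f38258008a8800813b808208008538089289f88789189e8865a7088089000980b008a008608758508f88558008a8805903b889081299780708408c38499582e98a08e999089984000c8408d99808798708f98950408a8049923b8994791b16786b157aeb0a08308b38308e088b19b03c8300008d086b18b0608fb0848308a783b113b8b1308008538008408c38408308b38308e088089881980b0000008608738108f38258008a8800813b808208008538008408c38408308b38308e088089881980b0008d00008738108f38258008a8800813b808208008538008408c38408308b38308e088089881980b0008d08600038108f38258008a8800813b808208039038008439b38408339a38308e088089582980b0039c3913920005ab38258008a8805903b808208008538008408c38408308b38308e088089881980b0008d08608738100038258008a8800813b808208039038008439b38408339a38339d393394881980b0008d0860873818aa00058008a8800813b889021008520559408c58959308b58808e08808958250248222e59659758508f3820005992025903b808208008538008408c38408308b38308e088089881980b0008d08608738108f3825800008800813b808221008520589208c88789108b88622f89689788180178108d08608738108f8852018980000813b889008008538008408c38408308b38308e088089582980b0008d08608758508f38258008a8800005ba08208008538008408c38408308b38308e088089881980b0008d08608738108f38258008a88008100008208008538008408c38408308b38308e088089881980b0008d08608738108f88558008a8800818b9000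 >>> (12 * (27 * a.val + b.val))) % 4096

theorem arr_chk (a b : I) (h : b ≠ a) : ∃ i, ∃ r < 72, arr [a] r b i :=
  ⟨_, _, (show ∀ a b : I, b ≠ a → wit a b % 128 < 72 ∧ arr [a] (wit a b % 128) b (Fin.ofNat 27 (wit a b / 128)) by
    decide +kernel) a b h⟩

/-- sign patterns compatible with the lines -/
def Ad (P : I → Bool) : Prop := ∀ a b, sg a b ≠ 0 → P (th a b) = xor (P a) (P b)

instance (P : I → Bool) : Decidable (Ad P) := by unfold Ad; infer_instance

/-- every point is obtained by joining earlier ones -/
def cl : List I → List I → Bool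
  | S, [] => decide (∀ a, a ∈ S)
  | S, a :: L => decide (∃ s ∈ S, ∃ s' ∈ S, sg s s' ≠ 0 ∧ th s s' = a) && cl (a :: S) L

theorem Ad.ext {P P' : I → Bool} (h : Ad P) (h' : Ad P') (e : ∀ a ∈ [0, 1, 2, 3, 9, 10], P a = P' a) : P = P' := by
  suffices ∀ L S, cl S L = true → (∀ a ∈ S, P a = P' a) → P = P' from
    this [7, 5, 6, 4, 8, 18, 12, 15, 19, 20, 14, 16, 11, 13, 17, 21, 22, 23, 24, 25, 26] _ (by decide +kernel) e
  intro L
  induction L with
  | nil => exact fun S h1 h2 => funext fun a => h2 a (of_decide_eq_true h1 a)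
  | cons a L ih =>
    intro S h1 h2
    rw [cl, Bool.and_eq_true] at h1
    obtain ⟨s, hs, s', hs', k, rfl⟩ := of_decide_eq_true h1.1
    exact ih _ h1.2 (List.forall_mem_cons.2 ⟨by rw [h _ _ k, h' _ _ k, h2 s hs, h2 s' hs'], h2⟩)

/-- the compatible patterns -/
def pat (b₀ b₁ b₂ b₃ b₄ b₅ : Bool) (a : I) : Bool :=
  Nat.testBit ((bif b₀ then 95940721 else 0) ^^^ (bif b₁ then 59914578 else 0) ^^^ (bif b₂ then 59885796 else 0) ^^^
    (bif b₃ then 114819576 else 0) ^^^ (bif b₄ then 119462400 else 0) ^^^ bif b₅ then 132344832 else 0) a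

/-- patterns of type `D₅T₁` -/
def TD (P : I → Bool) (a : I) : Prop := ∀ i, P i = true ↔ sg a i = 0 ∧ i ≠ a

/-- patterns of type `A₁A₅` -/
def TA (P : I → Bool) (r : ℕ) (i : I) : Prop := es r i ≠ 0 ∧ (∀ k, es r k ≠ 0 → P k ∧ P (src r k)) ∧
  ∀ d, P d → ∀ b, P b → (d ∈ [i, src r i] ∧ b ∈ [i, src r i]) ∨ ∃ c, sg d c ≠ 0 ∧ P (th d c) = false ∧
    (sg (th d c) b = 0 ∨ (c ∈ [i, src r i] ∧ th (th d c) b ∈ [i, src r i]))

instance (P : I → Bool) (a : I) : Decidable (TD P a) := by unfold TD; infer_instance

instance (P : I → Bool) (r : ℕ) (a : I) : Decidable (TA P r a) := by unfold TA; infer_instance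

/-- the types -/
def Ty (P : I → Bool) : Prop := (#{a | P a} = 16 ∧ ∃ a, TD P a) ∨ (#{a | P a} = 12 ∧ ∃ r < 72, ∃ i, TA P r i)

instance (P : I → Bool) : Decidable (Ty P) := by unfold Ty; infer_instance

theorem Ad.xor {m n : ℕ} (h : Ad fun a => m.testBit a) (h' : Ad fun a => n.testBit a) :
    Ad fun a => (m ^^^ n).testBit a := fun a b k => by
  have h1 := h a b k
  have h2 := h' a b k
  simp only [Nat.testBit_xor] at h1 h2 ⊢
  rw [h1, h2, Bool.xor_assoc, Bool.xor_assoc, Bool.xor_left_comm (m.testBit b)]

theorem ad_mask : ∀ m ∈ [95940721, 59914578, 59885796, 114819576, 119462400, 132344832], ∀ b : Bool,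
    Ad fun a => Nat.testBit (bif b then m else 0) a := by decide +kernel

theorem ad_pat (b₀ b₁ b₂ b₃ b₄ b₅ : Bool) : Ad (pat b₀ b₁ b₂ b₃ b₄ b₅) :=
  (((((ad_mask _ (by simp) b₀).xor (ad_mask _ (by simp) b₁)).xor (ad_mask _ (by simp) b₂)).xor
    (ad_mask _ (by simp) b₃)).xor (ad_mask _ (by simp) b₄)).xor (ad_mask _ (by simp) b₅)

theorem pat_map : ∀ b₀ b₁ b₂ b₃ b₄ b₅, [0, 1, 2, 3, 9, 10].map (pat b₀ b₁ b₂ b₃ b₄ b₅) = [b₀, b₁, b₂, b₃, b₄, b₅] := by
  decide +kernel

theorem pat_ty (b₀ b₁ : Bool) : ∀ b₂ b₃ b₄ b₅, (∀ a, pat b₀ b₁ b₂ b₃ b₄ b₅ a = false) ∨ Ty (pat b₀ b₁ b₂ b₃ b₄ b₅) := by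
  cases b₀ <;> cases b₁ <;> decide +kernel

end CfsgLib.E6V
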